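import Groth.Prelude.Def_DRing2
import Mathlib

/-!
Scalars killing two-term complexes in the derived category.
-/

set_option autoImplicit false
universe u

open CategoryTheory CategoryTheory.Limits

attribute [local instance] HasDerivedCategory.standard

namespace NLKillLib

variable {B : Type u} [CommRing B] {X Y : ModuleCat.{u} B}

/-- The two-term complex in degrees `-1, 0`. -/
noncomputable abbrev two (f : X ⟶ Y) : DRing.Cx B :=
  HomologicalComplex.double f (show (ComplexShape.up ℤ).Rel (-1) 0 by simp)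

variable (f : X ⟶ Y)

/-- The component at `-1`. -/
noncomputable abbrev e₀ : (two f).X (-1) ≅ X := HomologicalComplex.doubleXIso₀ f _
/-- The component at `0`. -/
noncomputable abbrev e₁ : (two f).X 0 ≅ Y := HomologicalComplex.doubleXIso₁ f _ (by decide)

theorem d_eq : (two f).d (-1) 0 = (e₀ f).hom ≫ f ≫ (e₁ f).inv :=
  HomologicalComplex.double_d f _ (by decide)

theorem d_zero_right (j : ℤ) : (two f).d 0 j = 0 :=
  HomologicalComplex.double_d_eq_zero₀ f _ _ _ (by decide)

/-- The homotopy given by a map back. -/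
noncomputable def hom (h : Y ⟶ X) (i j : ℤ) : (two f).X i ⟶ (two f).X j :=
  if hij : i = 0 ∧ j = -1 then
    eqToHom (by rw [hij.1]) ≫ ((e₁ f).hom ≫ h ≫ (e₀ f).inv) ≫ eqToHom (by rw [hij.2])
  else 0

theorem hom_zero_neg_one (h : Y ⟶ X) : hom f h 0 (-1) = (e₁ f).hom ≫ h ≫ (e₀ f).inv := by
  simp [hom]

theorem hom_eq_zero (h : Y ⟶ X) {i j : ℤ} (hij : ¬ (i = 0 ∧ j = -1)) : hom f h i j = 0 := dif_neg hij

theorem nullMap_f_neg_one (h : Y ⟶ X) :
    (Homotopy.nullHomotopicMap (hom f h)).f (-1) = (e₀ f).hom ≫ (f ≫ h) ≫ (e₀ f).inv := by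
  rw [Homotopy.nullHomotopicMap_f (k₂ := -2) (k₀ := 0) (by simp) (by simp), hom_zero_neg_one,
    hom_eq_zero f h (by omega : ¬ ((-1 : ℤ) = 0 ∧ (-2 : ℤ) = -1)), zero_comp, add_zero, d_eq]
  simp

theorem nullMap_f_zero (h : Y ⟶ X) :
    (Homotopy.nullHomotopicMap (hom f h)).f 0 = (e₁ f).hom ≫ (h ≫ f) ≫ (e₁ f).inv := by
  rw [Homotopy.nullHomotopicMap_f (k₂ := -1) (k₀ := 1) (by simp) (by simp), hom_zero_neg_one,
    d_zero_right, zero_comp, zero_add, d_eq]
  simp

theorem Q_nullMap (h : Y ⟶ X) :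
    DerivedCategory.Q.map (Homotopy.nullHomotopicMap (hom f h)) = 0 := by
  have H : Homotopy (Homotopy.nullHomotopicMap (hom f h)) (0 : two f ⟶ two f) :=
    Homotopy.nullHomotopy (hom f h) (fun i j hij => hom_eq_zero f h fun hc => hij (by
      rw [hc.1, hc.2]
      simp))
  rw [DerivedCategory.Q_map_eq_of_homotopy (C := ModuleCat.{u} B) H]
  exact DerivedCategory.Q.map_zero _ _

variable (g : B)

theorem toD_smul_id : g • 𝟙 (DRing.toD (two f)) = DerivedCategory.Q.map (g • 𝟙 (two f)) := by
  rw [CategoryTheory.Functor.map_smul, CategoryTheory.Functor.map_id]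

/-- A scalar which factors through the differential on both sides is zero in `D(B)`. -/
theorem smul_id_eq_zero (h : Y ⟶ X) (h₁ : f ≫ h = g • 𝟙 X) (h₂ : h ≫ f = g • 𝟙 Y) :
    g • 𝟙 (DRing.toD (two f)) = 0 := by
  rw [toD_smul_id, ← Q_nullMap f h]
  congr 1
  refine HomologicalComplex.to_double_hom_ext ?_ ?_
  · rw [nullMap_f_neg_one, h₁]
    simp
  · rw [nullMap_f_zero, h₂]
    simp

/-- A scalar which factors through the differential on the left kills `Ext¹` of the complex, the
degree zero term being projective. -/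
theorem smul_eq_zero_of_projective [Projective Y] (h : Y ⟶ X) (h₁ : f ≫ h = g • 𝟙 X)
    (N : Type u) [AddCommGroup N] [Module B N]
    (φ : DRing.toD (two f) ⟶ (Dual.inD B N)⟦(1 : ℤ)⟧) : g • φ = 0 := by
  let a : two f ⟶ two f := g • 𝟙 (two f) - Homotopy.nullHomotopicMap (hom f h)
  let a₀ : Y ⟶ Y := g • 𝟙 Y - h ≫ f
  have ha₀ : f ≫ a₀ = 0 := by
    simp only [a₀, Preadditive.comp_sub, Linear.comp_smul, Category.comp_id]
    rw [← Category.assoc, h₁]
    simp
  let p : two f ⟶ (HomologicalComplex.single _ (ComplexShape.up ℤ) 0).obj Y :=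
    HomologicalComplex.mkHomToSingle ((e₁ f).hom ≫ a₀) (fun i hi => by
      obtain rfl : i = -1 := by simp only [ComplexShape.up_Rel] at hi; omega
      simp [d_eq, ha₀])
  let q : (HomologicalComplex.single _ (ComplexShape.up ℤ) 0).obj Y ⟶ two f :=
    HomologicalComplex.mkHomFromSingle (e₁ f).inv (fun k _ => by rw [d_zero_right, comp_zero])
  have hpq : p ≫ q = a := by
    refine HomologicalComplex.to_double_hom_ext ?_ ?_
    · have hz : IsZero (((HomologicalComplex.single (ModuleCat.{u} B) (ComplexShape.up ℤ) 0).obj Y).X (-1)) :=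
        HomologicalComplex.isZero_single_obj_X _ _ _ _ (by decide)
      rw [HomologicalComplex.comp_f, hz.eq_of_src (q.f (-1)) 0, comp_zero]
      simp only [a, HomologicalComplex.sub_f_apply, nullMap_f_neg_one, h₁]
      simp
    · simp only [p, q, HomologicalComplex.comp_f, HomologicalComplex.mkHomToSingle_f,
        HomologicalComplex.mkHomFromSingle_f, a, a₀, HomologicalComplex.sub_f_apply, nullMap_f_zero]
      simp
  have hQ : g • 𝟙 (DRing.toD (two f)) = DerivedCategory.Q.map a := by
    rw [CategoryTheory.Functor.map_sub, Q_nullMap, sub_zero, toD_smul_id]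
  have hzero : DerivedCategory.Q.map q ≫ φ = 0 := by
    have : HasExt.{u + 1} (ModuleCat.{u} B) := HasExt.standard _
    have hs : Subsingleton ((DerivedCategory.singleFunctor (ModuleCat.{u} B) 0).obj Y ⟶
        ((DerivedCategory.singleFunctor (ModuleCat.{u} B) 0).obj (ModuleCat.of B N))⟦((1 : ℕ) : ℤ)⟧) := by
      have := Abelian.Ext.subsingleton_of_projective.{u + 1} Y (ModuleCat.of B N) 0
      exact (Abelian.Ext.homEquiv (C := ModuleCat.{u} B)).symm.subsingleton
    exact hs.elim _ _
  calc g • φ = (g • 𝟙 (DRing.toD (two f))) ≫ φ := by rw [Linear.smul_comp, Category.id_comp]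
    _ = 0 := by rw [hQ, ← hpq, Functor.map_comp, Category.assoc, hzero, comp_zero]

end NLKillLib
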